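import Cfsg.Agent.Blocks.Knorr
import Cfsg.Agent.Blocks.Elementary
import Cfsg.Agent.Blocks.Basic
import Cfsg.Agent.Blocks.Central
import Cfsg.Agent.Characters.Core
import Cfsg.Agent.Blocks.CliffordCentral

/-!
# S4577, E8 star case, lemma (U) (helper142)

* `linIndep` : the characters of `p`-defect zero are linearly independent modulo `M` on the classes of defect zero;
* `U` : if the classes of defect zero which are not invariant under the automorphism `σ` (with `σ⁵` class preserving)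
  form one `σ`-orbit, then the characters of defect zero which are not `σ`-invariant form at most one `σ`-orbit.
-/

set_option autoImplicit false
set_option linter.unusedSectionVars false

open Cfsg
open scoped ComplexConjugate

namespace Cfsg.Agent.H142.KS

universe u

variable {G : Type u} [Group G] [Finite G] {p : ℕ} {M : Ideal AlgInt}

/-- the value of an irreducible character as an algebraic integer -/
noncomputable def val (χ : IrrCharacter G) (g : G) : AlgInt :=
  ⟨(χ : G → ℂ) g, Cfsg.Agent.Blocks.Central.isIntegral_irr χ.2 g⟩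

theorem coe_val (χ : IrrCharacter G) (g : G) : (val χ g : ℂ) = (χ : G → ℂ) g := rfl

/-- `p`-defect zero -/
def DZ (p : ℕ) (χ : IrrCharacter G) : Prop :=
  (charDegree (χ : G → ℂ)).factorization p = (Nat.card G).factorization p

/-- the index `|G| / χ(1)` -/
theorem exists_index (hp : p.Prime) {χ : IrrCharacter G} (h : DZ p χ) :
    ∃ m : ℕ, ¬ p ∣ m ∧ charDegree (χ : G → ℂ) * m = Nat.card G := by
  obtain ⟨m, hm⟩ := Cfsg.Agent.Blocks.Knorr.charDegree_dvd χ.2
  refine ⟨m, fun hd => ?_, hm.symm⟩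
  have h0 : Nat.card G ≠ 0 := Nat.card_pos.ne'
  have h1 : charDegree (χ : G → ℂ) ≠ 0 := by
    intro h
    rw [h, zero_mul] at hm
    exact h0 hm
  have h2 : m ≠ 0 := by
    intro h
    rw [h, mul_zero] at hm
    exact h0 hm
  have h3 : (Nat.card G).factorization p = (charDegree (χ : G → ℂ)).factorization p + m.factorization p := by
    rw [hm, Nat.factorization_mul h1 h2, Finsupp.add_apply]
  have h4 := (hp.dvd_iff_one_le_factorization h2).1 hd
  have h5 : (charDegree (χ : G → ℂ)).factorization p = (Nat.card G).factorization p := h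
  omega

theorem index_mul (χ : IrrCharacter G) {m : ℕ} (hm : charDegree (χ : G → ℂ) * m = Nat.card G) (g : G) :
    (m : ℂ) * (χ : G → ℂ) g =
      (Nat.card (Subgroup.centralizer ({g} : Set G)) : ℂ) * centralChar (χ : G → ℂ) g := by
  have h1 : (χ : G → ℂ) 1 = (charDegree (χ : G → ℂ) : ℂ) := Cfsg.Agent.Blocks.Basic.irr_one_eq_charDegree χ.2
  have h0 : (χ : G → ℂ) 1 ≠ 0 := Cfsg.Agent.Blocks.Basic.irr_one_ne_zero χ.2
  have h2 : Nat.card (Subgroup.centralizer ({g} : Set G)) * (Subgroup.centralizer ({g} : Set G)).index = Nat.card G :=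
    Subgroup.card_mul_index _
  have h3 : (Nat.card (Subgroup.centralizer ({g} : Set G)) : ℂ) * ((Subgroup.centralizer ({g} : Set G)).index : ℂ) =
      (charDegree (χ : G → ℂ) : ℂ) * m := by
    exact_mod_cast h2.trans hm.symm
  rw [Cfsg.Agent.Blocks.Basic.centralChar_def, mul_div_assoc', eq_div_iff h0, h1]
  linear_combination (-(χ : G → ℂ) g) * h3

/-- a character of defect zero is in `M` on the classes whose centralizer has order divisible by `p` -/
theorem val_mem (hM : IsPModular p M) {χ : IrrCharacter G} (h : DZ p χ) {g : G}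
    (hg : p ∣ Nat.card (Subgroup.centralizer ({g} : Set G))) : val χ g ∈ M := by
  have hprime : M.IsPrime := hM.2.1.isPrime
  obtain ⟨m, hm, hm'⟩ := exists_index hM.1 h
  have h1 := index_mul χ hm' g
  have h2 : (m : AlgInt) * val χ g = (Nat.card (Subgroup.centralizer ({g} : Set G)) : AlgInt) *
      ⟨centralChar (χ : G → ℂ) g, Cfsg.Agent.Blocks.Central.isIntegral_centralChar χ.2 g⟩ := by
    apply Subtype.ext
    push_cast
    exact h1
  have h3 : (m : AlgInt) * val χ g ∈ M := by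
    rw [h2]
    exact M.mul_mem_right _ ((Cfsg.Agent.Blocks.Local.natCast_mem_iff hM _).2 hg)
  rcases hprime.mem_or_mem h3 with h4 | h4
  · exact absurd ((Cfsg.Agent.Blocks.Local.natCast_mem_iff hM _).1 h4) hm
  · exact h4

/-- linear independence of the characters of defect zero modulo `M` on the classes of defect zero -/
theorem linIndep (hM : IsPModular p M) {ι : Type*} [Fintype ι] (χ : ι → IrrCharacter G)
    (hinj : Function.Injective χ) (hχ : ∀ i, DZ p (χ i)) (c : ι → AlgInt)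
    (h : ∀ g : G, ¬ p ∣ Nat.card (Subgroup.centralizer ({g} : Set G)) → ∑ i, c i * val (χ i) g ∈ M) (k : ι) :
    c k ∈ M := by
  classical
  have hprime : M.IsPrime := hM.2.1.isPrime
  have : Fintype G := Fintype.ofFinite G
  have : Fintype (ConjClasses G) := Fintype.ofFinite _
  obtain ⟨m, hm, hm'⟩ := exists_index hM.1 (hχ k)
  have hall : ∀ g : G, ∑ i, c i * val (χ i) g ∈ M := by
    intro g
    by_cases hg : p ∣ Nat.card (Subgroup.centralizer ({g} : Set G))
    · exact M.sum_mem fun i _ => M.mul_mem_left _ (val_mem hM (hχ i) hg)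
    · exact h g hg
  -- the function
  set f : G → ℂ := fun g => ∑ i, (c i : ℂ) * (χ i : G → ℂ) g with hf
  have hcl : ∀ i, IsClassFunction G (χ i : G → ℂ) := fun i => Cfsg.Agent.Blocks.Basic.irr_isClassFunction (χ i).2
  have hfc : IsClassFunction G (fun g => f g * conj ((χ k : G → ℂ) g)) := by
    intro g x
    have e1 : f (x * g * x⁻¹) = f g := by
      rw [hf]
      exact Finset.sum_congr rfl fun i _ => by rw [hcl i g x]
    have e2 : (χ k : G → ℂ) (x * g * x⁻¹) = (χ k : G → ℂ) g := hcl k g x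
    change f (x * g * x⁻¹) * conj ((χ k : G → ℂ) (x * g * x⁻¹)) = f g * conj ((χ k : G → ℂ) g)
    rw [e1, e2]
  have hsum1 : ∑ g : G, f g * conj ((χ k : G → ℂ) g) = (c k : ℂ) * Nat.card G := by
    have e1 : ∀ g : G, f g * conj ((χ k : G → ℂ) g) = ∑ i, (c i : ℂ) * ((χ i : G → ℂ) g * conj ((χ k : G → ℂ) g)) := by
      intro g
      rw [hf, Finset.sum_mul]
      exact Finset.sum_congr rfl fun i _ => by ring
    rw [Finset.sum_congr rfl fun g _ => e1 g, Finset.sum_comm]
    have e2 : ∀ i, ∑ g : G, (c i : ℂ) * ((χ i : G → ℂ) g * conj ((χ k : G → ℂ) g)) =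
        (c i : ℂ) * (Nat.card G * (if i = k then 1 else 0)) := by
      intro i
      rw [← Finset.mul_sum]
      congr 1
      have h1 := Cfsg.Agent.Characters.Core.classInner_irr (χ i).2 (χ k).2
      rw [Cfsg.Agent.Blocks.Basic.classInner_def] at h1
      have h0 : (Nat.card G : ℂ) ≠ 0 := by exact_mod_cast Nat.card_pos.ne'
      have h2 : ((χ i : G → ℂ) = (χ k : G → ℂ)) ↔ i = k := ⟨fun h => hinj (Subtype.ext h), fun h => by rw [h]⟩
      rw [inv_mul_eq_iff_eq_mul₀ h0] at h1
      rw [h1]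
      simp only [h2]
    rw [Finset.sum_congr rfl fun i _ => e2 i]
    simp only [mul_ite, mul_one, mul_zero]
    rw [Finset.sum_ite_eq' Finset.univ k, if_pos (Finset.mem_univ k)]
  have h1k : (χ k : G → ℂ) 1 = (charDegree (χ k : G → ℂ) : ℂ) := Cfsg.Agent.Blocks.Basic.irr_one_eq_charDegree (χ k).2
  have h0k : (χ k : G → ℂ) 1 ≠ 0 := Cfsg.Agent.Blocks.Basic.irr_one_ne_zero (χ k).2
  rw [Cfsg.Agent.Blocks.Elementary.sum_eq_sum_conjClasses hfc] at hsum1
  have hconj : ∀ g : G, ((Subgroup.centralizer ({g} : Set G)).index : ℂ) * conj ((χ k : G → ℂ) g) =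
      (charDegree (χ k : G → ℂ) : ℂ) * conj (centralChar (χ k : G → ℂ) g) := by
    intro g
    have e1 : centralChar (χ k : G → ℂ) g * (χ k : G → ℂ) 1 =
        ((Subgroup.centralizer ({g} : Set G)).index : ℂ) * (χ k : G → ℂ) g := by
      rw [Cfsg.Agent.Blocks.Basic.centralChar_def, div_mul_cancel₀ _ h0k]
    have e2 := congrArg (starRingEnd ℂ) e1
    rw [map_mul, map_mul, h1k, Complex.conj_natCast, Complex.conj_natCast] at e2
    rw [← e2, mul_comm]
  have hkey : (m : ℂ) * (c k : ℂ) = ∑ K : ConjClasses G, f K.out * conj (centralChar (χ k : G → ℂ) K.out) := by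
    have hd : (charDegree (χ k : G → ℂ) : ℂ) ≠ 0 := by rw [← h1k]; exact h0k
    apply mul_left_cancel₀ hd
    have e1 : (charDegree (χ k : G → ℂ) : ℂ) * ((m : ℂ) * (c k : ℂ)) = (c k : ℂ) * Nat.card G := by
      have : (charDegree (χ k : G → ℂ) : ℂ) * (m : ℂ) = Nat.card G := by exact_mod_cast hm'
      rw [← this]
      ring
    rw [e1, ← hsum1, Finset.mul_sum]
    refine Finset.sum_congr rfl fun K _ => ?_
    linear_combination f K.out * hconj K.out
  have hint : ∀ g : G, IsIntegral ℤ (conj (centralChar (χ k : G → ℂ) g)) := fun g =>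
    (Cfsg.Agent.Blocks.Central.isIntegral_centralChar (χ k).2 g).map (Complex.conjAe.toAlgHom.restrictScalars ℤ)
  have hmem : (m : AlgInt) * c k ∈ M := by
    have e1 : (m : AlgInt) * c k = ∑ K : ConjClasses G, (∑ i, c i * val (χ i) K.out) *
        ⟨conj (centralChar (χ k : G → ℂ) K.out), hint _⟩ := by
      apply Subtype.ext
      push_cast
      rw [hkey]
      rfl
    rw [e1]
    exact M.sum_mem fun K _ => M.mul_mem_right _ (hall _)
  rcases hprime.mem_or_mem hmem with h4 | h4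
  · exact absurd ((Cfsg.Agent.Blocks.Local.natCast_mem_iff hM _).1 h4) hm
  · exact h4

/-! ### (U) -/

/-- the twist of an irreducible character by a power of an automorphism -/
noncomputable def tw (σ : MulAut G) (i : ℕ) (χ : IrrCharacter G) : IrrCharacter G :=
  ⟨fun g => (χ : G → ℂ) ((σ ^ i) g), Cfsg.Agent.Blocks.CliffordCentral.isIrrCharacter_comp χ.2
    (σ ^ i : MulAut G).toMonoidHom (σ ^ i : MulAut G).surjective⟩

theorem tw_apply (σ : MulAut G) (i : ℕ) (χ : IrrCharacter G) (g : G) :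
    (tw σ i χ : G → ℂ) g = (χ : G → ℂ) ((σ ^ i) g) := rfl

theorem tw_tw (σ : MulAut G) (i j : ℕ) (χ : IrrCharacter G) : tw σ j (tw σ i χ) = tw σ (i + j) χ := by
  apply Subtype.ext
  funext g
  rw [tw_apply, tw_apply, tw_apply, pow_add]
  rfl

theorem tw_zero (σ : MulAut G) (χ : IrrCharacter G) : tw σ 0 χ = χ := by
  apply Subtype.ext
  funext g
  rw [tw_apply, pow_zero]
  rfl

theorem tw_dz {σ : MulAut G} {i : ℕ} {χ : IrrCharacter G} (h : DZ p χ) : DZ p (tw σ i χ) := by
  have h1 : charDegree (tw σ i χ : G → ℂ) = charDegree (χ : G → ℂ) := by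
    rw [Cfsg.Agent.Blocks.Basic.charDegree_def, Cfsg.Agent.Blocks.Basic.charDegree_def, tw_apply, map_one]
  unfold DZ
  rw [h1]
  exact h

/-- `σ ^ 5` preserves the classes -/
theorem tw_five {σ : MulAut G} (hσ : ∀ s : G, IsConj ((σ ^ 5) s) s) (χ : IrrCharacter G) : tw σ 5 χ = χ := by
  apply Subtype.ext
  funext g
  exact Cfsg.Agent.Blocks.Basic.irr_isConj χ.2 (hσ g)

theorem tw_five_mul {σ : MulAut G} (hσ : ∀ s : G, IsConj ((σ ^ 5) s) s) (k i : ℕ) (χ : IrrCharacter G) :
    tw σ (5 * k + i) χ = tw σ i χ := by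
  induction k with
  | zero => rw [mul_zero, zero_add]
  | succ k ih =>
    have e : 5 * (k + 1) + i = 5 + (5 * k + i) := by ring
    rw [e, ← tw_tw, tw_five hσ, ih]

theorem tw_mod {σ : MulAut G} (hσ : ∀ s : G, IsConj ((σ ^ 5) s) s) (i : ℕ) (χ : IrrCharacter G) :
    tw σ (i % 5) χ = tw σ i χ := by
  conv_rhs => rw [← Nat.div_add_mod i 5]
  rw [tw_five_mul hσ]

/-- a fixed character -/
theorem tw_one_of {σ : MulAut G} (hσ : ∀ s : G, IsConj ((σ ^ 5) s) s) {χ : IrrCharacter G} {d : ℕ} (hd : ¬ 5 ∣ d)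
    (h : tw σ d χ = χ) : tw σ 1 χ = χ := by
  have key : ∀ k : ℕ, tw σ (k * d) χ = χ := by
    intro k
    induction k with
    | zero => rw [zero_mul, tw_zero]
    | succ k ih =>
      rw [Nat.succ_mul, ← tw_tw, ih, h]
  have h5 : ∃ k : ℕ, (k * d) % 5 = 1 := by
    have : d % 5 = 1 ∨ d % 5 = 2 ∨ d % 5 = 3 ∨ d % 5 = 4 := by omega
    rcases this with h | h | h | h
    · exact ⟨1, by omega⟩
    · exact ⟨3, by omega⟩
    · exact ⟨2, by omega⟩
    · exact ⟨4, by omega⟩
  obtain ⟨k, hk⟩ := h5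
  have h1 := key k
  rw [← tw_mod hσ, hk] at h1
  exact h1

theorem tw_inj {σ : MulAut G} (hσ : ∀ s : G, IsConj ((σ ^ 5) s) s) {χ : IrrCharacter G} (h1 : tw σ 1 χ ≠ χ)
    {i j : ℕ} (h : tw σ i χ = tw σ j χ) : i % 5 = j % 5 := by
  by_contra hij
  -- 4 i + ... : multiply by the inverse of `tw σ j`
  have h2 : tw σ (4 * j) (tw σ i χ) = tw σ (4 * j) (tw σ j χ) := by rw [h]
  rw [tw_tw, tw_tw] at h2
  have h3 : tw σ (j + 4 * j) χ = χ := by
    have e : j + 4 * j = 5 * j + 0 := by ring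
    rw [e, tw_five_mul hσ, tw_zero]
  rw [h3] at h2
  exact h1 (tw_one_of hσ (by omega) h2)

/-- **(U)** -/
theorem U (hM : IsPModular p M) (σ : MulAut G) (hσ : ∀ s : G, IsConj ((σ ^ 5) s) s)
    (hcl : ∀ a b : G, ¬ p ∣ Nat.card (Subgroup.centralizer ({a} : Set G)) → ¬ IsConj a (σ a) →
      ¬ p ∣ Nat.card (Subgroup.centralizer ({b} : Set G)) → ¬ IsConj b (σ b) → ∃ i : ℕ, IsConj b ((σ ^ i) a))
    (ψ φ : IrrCharacter G) (hψ : DZ p ψ) (hφ : DZ p φ) (hψ1 : tw σ 1 ψ ≠ ψ) (hφ1 : tw σ 1 φ ≠ φ) :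
    ∃ i : ℕ, φ = tw σ i ψ := by
  classical
  by_contra hno
  push Not at hno
  have hmax : M.IsMaximal := hM.2.1
  let _ : Field (AlgInt ⧸ M) := Ideal.Quotient.field M
  -- the point
  obtain ⟨a, ha⟩ : ∃ a : G, ∀ b : G, ¬ p ∣ Nat.card (Subgroup.centralizer ({b} : Set G)) → ¬ IsConj b (σ b) →
      ∃ i : ℕ, IsConj b ((σ ^ i) a) := by
    by_cases h : ∃ a : G, ¬ p ∣ Nat.card (Subgroup.centralizer ({a} : Set G)) ∧ ¬ IsConj a (σ a)
    · obtain ⟨a, ha1, ha2⟩ := h
      exact ⟨a, fun b hb1 hb2 => hcl a b ha1 ha2 hb1 hb2⟩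
    · push Not at h
      exact ⟨1, fun b hb1 hb2 => absurd (h b hb1) hb2⟩
  -- the residues
  set R : IrrCharacter G → G → AlgInt ⧸ M := fun χ g => Ideal.Quotient.mk M (val χ g) with hR
  have Rconj : ∀ (χ : IrrCharacter G) {g h : G}, IsConj g h → R χ g = R χ h := by
    intro χ g h hgh
    rw [hR]
    have : val χ g = val χ h := Subtype.ext (Cfsg.Agent.Blocks.Basic.irr_isConj χ.2 hgh)
    simp only [this]
  have Rtw : ∀ (χ : IrrCharacter G) (i : ℕ) (g : G), R (tw σ i χ) g = R χ ((σ ^ i) g) := fun χ i g => rfl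
  -- six differences
  set w : Fin 6 → G → AlgInt ⧸ M := ![fun g => R (tw σ 0 ψ) g - R (tw σ 1 ψ) g, fun g => R (tw σ 1 ψ) g - R (tw σ 2 ψ) g,
    fun g => R (tw σ 2 ψ) g - R (tw σ 3 ψ) g, fun g => R (tw σ 3 ψ) g - R (tw σ 4 ψ) g,
    fun g => R (tw σ 0 φ) g - R (tw σ 1 φ) g, fun g => R (tw σ 1 φ) g - R (tw σ 2 φ) g] with hw
  -- a relation on the five points
  have hdep : ¬ LinearIndependent (AlgInt ⧸ M) (fun i : Fin 6 => fun t : Fin 5 => w i ((σ ^ (t : ℕ)) a)) := by
    intro hli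
    have h1 := hli.fintype_card_le_finrank
    rw [Module.finrank_fintype_fun_eq_card, Fintype.card_fin, Fintype.card_fin] at h1
    omega
  rw [Fintype.not_linearIndependent_iff] at hdep
  obtain ⟨c, hc, i0, hi0⟩ := hdep
  have hc' : ∀ t : ℕ, ∑ i : Fin 6, c i * w i ((σ ^ t) a) = 0 := by
    intro t
    have h1 := congrFun hc ⟨t % 5, Nat.mod_lt _ (by norm_num)⟩
    rw [Finset.sum_apply] at h1
    have h2 : IsConj ((σ ^ t) a) ((σ ^ (t % 5)) a) := by
      have key : ∀ k : ℕ, ∀ s : G, IsConj ((σ ^ (5 * k)) s) s := by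
        intro k
        induction k with
        | zero => intro s; rw [mul_zero, pow_zero]; exact IsConj.refl _
        | succ k ih =>
          intro s
          have e : 5 * (k + 1) = 5 + 5 * k := by ring
          rw [e, pow_add]
          exact (hσ _).trans (ih s)
      conv_lhs => rw [← Nat.div_add_mod t 5, pow_add]
      exact key _ _
    have h3 : ∀ i : Fin 6, w i ((σ ^ t) a) = w i ((σ ^ (t % 5)) a) := by
      intro i
      rw [hw]
      fin_cases i <;> simp [Rconj _ h2]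
    rw [Finset.sum_congr rfl fun i _ => by rw [h3 i]]
    simpa using h1
  -- the relation everywhere
  have hrel : ∀ g : G, ¬ p ∣ Nat.card (Subgroup.centralizer ({g} : Set G)) → ∑ i : Fin 6, c i * w i g = 0 := by
    intro g hg
    by_cases hg2 : IsConj g (σ g)
    · have h1 : ∀ i : ℕ, IsConj ((σ ^ i) g) ((σ ^ (i + 1)) g) := by
        intro i
        rw [pow_succ]
        exact (σ ^ i : MulAut G).toMonoidHom.map_isConj hg2
      have h2 : ∀ (χ : IrrCharacter G) (i : ℕ), R (tw σ i χ) g - R (tw σ (i + 1) χ) g = 0 := by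
        intro χ i
        rw [Rtw, Rtw, Rconj χ (h1 i), sub_self]
      refine Finset.sum_eq_zero fun i _ => ?_
      have h3 : w i g = 0 := by
        rw [hw]
        fin_cases i
        · exact h2 ψ 0
        · exact h2 ψ 1
        · exact h2 ψ 2
        · exact h2 ψ 3
        · exact h2 φ 0
        · exact h2 φ 1
      rw [h3, mul_zero]
    · obtain ⟨i, hi⟩ := ha g hg hg2
      have h3 : ∀ j : Fin 6, w j g = w j ((σ ^ i) a) := by
        intro j
        rw [hw]
        fin_cases j <;> simp [Rconj _ hi]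
      rw [Finset.sum_congr rfl fun j _ => by rw [h3 j]]
      exact hc' i
  -- eight characters
  set X : Fin 8 → IrrCharacter G := ![tw σ 0 ψ, tw σ 1 ψ, tw σ 2 ψ, tw σ 3 ψ, tw σ 4 ψ, tw σ 0 φ, tw σ 1 φ, tw σ 2 φ]
    with hX
  set d : Fin 8 → AlgInt ⧸ M := ![c 0, c 1 - c 0, c 2 - c 1, c 3 - c 2, -c 3, c 4, c 5 - c 4, -c 5] with hd
  have hψφ : ∀ i j : ℕ, tw σ i ψ ≠ tw σ j φ := by
    intro i j h
    have h2 : tw σ (4 * j) (tw σ i ψ) = tw σ (4 * j) (tw σ j φ) := by rw [h]
    rw [tw_tw, tw_tw] at h2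
    have e : j + 4 * j = 5 * j + 0 := by ring
    rw [e, tw_five_mul hσ, tw_zero] at h2
    exact hno _ h2.symm
  have hψi : ∀ i j : ℕ, i < 5 → j < 5 → tw σ i ψ = tw σ j ψ → i = j := by
    intro i j hi hj h
    have := tw_inj hσ hψ1 h
    rwa [Nat.mod_eq_of_lt hi, Nat.mod_eq_of_lt hj] at this
  have hφi : ∀ i j : ℕ, i < 5 → j < 5 → tw σ i φ = tw σ j φ → i = j := by
    intro i j hi hj h
    have := tw_inj hσ hφ1 h
    rwa [Nat.mod_eq_of_lt hi, Nat.mod_eq_of_lt hj] at this
  have hXinj : Function.Injective X := by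
    -- classification of the index
    have hcase : ∀ i : Fin 8, ((i : ℕ) < 5 ∧ X i = tw σ i ψ) ∨ (5 ≤ (i : ℕ) ∧ X i = tw σ ((i : ℕ) - 5) φ) := by
      intro i
      fin_cases i
      · exact Or.inl ⟨by decide, rfl⟩
      · exact Or.inl ⟨by decide, rfl⟩
      · exact Or.inl ⟨by decide, rfl⟩
      · exact Or.inl ⟨by decide, rfl⟩
      · exact Or.inl ⟨by decide, rfl⟩
      · exact Or.inr ⟨by decide, rfl⟩
      · exact Or.inr ⟨by decide, rfl⟩
      · exact Or.inr ⟨by decide, rfl⟩
    intro i j hij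
    have hi8 := i.2
    have hj8 := j.2
    rcases hcase i with ⟨h1, h2⟩ | ⟨h1, h2⟩ <;> rcases hcase j with ⟨h3, h4⟩ | ⟨h3, h4⟩
    · rw [h2, h4] at hij
      exact Fin.ext (hψi _ _ h1 h3 hij)
    · rw [h2, h4] at hij
      exact absurd hij (hψφ _ _)
    · rw [h2, h4] at hij
      exact absurd hij.symm (hψφ _ _)
    · rw [h2, h4] at hij
      have := hφi _ _ (by omega) (by omega) hij
      exact Fin.ext (by omega)
  have hXdz : ∀ i, DZ p (X i) := by
    intro i
    fin_cases i
    · exact tw_dz hψ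
    · exact tw_dz hψ
    · exact tw_dz hψ
    · exact tw_dz hψ
    · exact tw_dz hψ
    · exact tw_dz hφ
    · exact tw_dz hφ
    · exact tw_dz hφ
  -- lift the coefficients
  have hsurj : ∀ x : AlgInt ⧸ M, ∃ y : AlgInt, Ideal.Quotient.mk M y = x := Ideal.Quotient.mk_surjective
  choose l hl using hsurj
  have hlin := linIndep hM X hXinj hXdz (fun i => l (d i)) (by
    intro g hg
    rw [← Ideal.Quotient.eq_zero_iff_mem, map_sum]
    have h1 := hrel g hg
    rw [← h1]
    have h2 : ∀ i : Fin 8, (Ideal.Quotient.mk M) (l (d i) * val (X i) g) = d i * R (X i) g := by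
      intro i
      rw [map_mul, hl]
    rw [Finset.sum_congr rfl fun i _ => h2 i, hd, hX, hw]
    simp only [Fin.sum_univ_succ, Fin.sum_univ_zero]
    simp
    ring)
  have hd0 : ∀ i, d i = 0 := by
    intro i
    have h1 := hlin i
    rw [← Ideal.Quotient.eq_zero_iff_mem, hl] at h1
    exact h1
  have e0 : c 0 = 0 := hd0 0
  have e1 : c 1 - c 0 = 0 := hd0 1
  have e2 : c 2 - c 1 = 0 := hd0 2
  have e3 : c 3 - c 2 = 0 := hd0 3
  have e4 : c 4 = 0 := hd0 5
  have e5 : c 5 - c 4 = 0 := hd0 6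
  have f1 : c 1 = 0 := by rw [e0, sub_zero] at e1; exact e1
  have f2 : c 2 = 0 := by rw [f1, sub_zero] at e2; exact e2
  have f3 : c 3 = 0 := by rw [f2, sub_zero] at e3; exact e3
  have f5 : c 5 = 0 := by rw [e4, sub_zero] at e5; exact e5
  apply hi0
  fin_cases i0
  · exact e0
  · exact f1
  · exact f2
  · exact f3
  · exact e4
  · exact f5

end Cfsg.Agent.H142.KS
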